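import Cfsg.Agent.Lib.S3298.Glue.Span
import Mathlib.GroupTheory.SpecificGroups.Alternating.Simple

/-!
S3298, gluing: from one embedded alternating group on eight or nine points and the centraliser of the
involution, Carmichael's relations give an embedding of the alternating group of twelve or thirteen points.
-/

set_option autoImplicit false
set_option maxRecDepth 100000
set_option linter.unusedSectionVars false

namespace Cfsg.Agent.S3298Lib

open Equiv Subgroup SylClasses S3298Fus BoundedPres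

theorem std_last (a : ↥W0) : std a 12 = 12 := rfl

/-- The third point determines the fourth. -/
theorem std_three {a : ↥W0} (h : std a 2 = 2) : std a 3 = 3 := by
  have := DFunLike.congr_fun (congrArg std (z0_comm a)) (2 : Fin 13)
  rw [map_mul, map_mul, std_z0, Perm.mul_apply, Perm.mul_apply, show tt 2 = 3 by decide +kernel, h,
    show tt 2 = 3 by decide +kernel] at this
  exact this

/-- The element moving the third point to a given one. -/
def mov (i : Fin 13) : ↥W0 :=
  let k : Fin 6 := Fin.ofNat 6 (i.val / 2)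
  if i.val % 2 = 0 then pm0 (swap 1 k) else pm0 (swap 1 k) * f1k (if k = 2 then 3 else 2)

theorem mov_facts : ∀ i : Fin 13, 2 ≤ i.val → i.val < 12 →
    std (mov i) 0 = 0 ∧ std (mov i) 1 = 1 ∧ std (mov i) 2 = i ∧
      (i.val < 8 → Perm.sign (std (mov i)) = 1 ∧ ∀ j : Fin 13, 8 ≤ j.val → std (mov i) j = j) := by
  decide +kernel

/-- The points after the first two. -/
def sF (full : Bool) : Finset (Fin 13) := Finset.univ.filter fun i => 2 ≤ i.val ∧ (i.val < 12 ∨ full = true)

theorem good_sF (full : Bool) : Good (0 : Fin 13) 1 (sF full) :=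
  ⟨by decide, by simp [sF], by simp [sF]⟩

theorem Cs_sF (full : Bool) : Cs (0 : Fin 13) 1 (sF full) = altS full := by
  refine le_antisymm (closure_le (altS full) |>.2 ?_) fun g hg => ?_
  · rintro _ ⟨i, hi, rfl⟩
    have hi' := (Finset.mem_filter.1 (Finset.mem_coe.1 hi)).2
    have he : Perm.sign (cyc (0 : Fin 13) 1 i) = 1 :=
      (by decide +kernel : ∀ i : Fin 13, 2 ≤ i.val → Perm.sign (cyc (0 : Fin 13) 1 i) = 1) i hi'.1
    cases full
    · refine ⟨Perm.mem_alternatingGroup.2 he, MulAction.mem_stabilizer_iff.2 (cyc_fix (by decide) (by decide) ?_)⟩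
      rintro rfl
      rcases hi'.2 with h | h
      · exact absurd h (by decide)
      · exact absurd h (by decide)
    · exact Perm.mem_alternatingGroup.2 he
  · cases full
    · refine mem_Cs_of_support (good_sF _) (Perm.mem_alternatingGroup.1 hg.1) fun x hx => ?_
      have h12 : g 12 = 12 := MulAction.mem_stabilizer_iff.1 hg.2
      have hx' : x ≠ 12 := fun h => hx (h ▸ h12)
      exact (by decide +kernel : ∀ x : Fin 13, x ≠ 12 → x ∈ insert (0 : Fin 13) (insert 1 (sF false))) x hx'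
    · exact mem_Cs_of_support (good_sF _) (Perm.mem_alternatingGroup.1 hg) fun x _ =>
        (by decide +kernel : ∀ x : Fin 13, x ∈ insert (0 : Fin 13) (insert 1 (sF true))) x

theorem mem_H45 {full : Bool} {g : P13} :
    g ∈ H45 full ↔ g ∈ altS full ∧ ∀ j : Fin 13, 8 ≤ j.val → j.val < 12 → g j = j := by
  rw [H45, Subgroup.mem_inf, mem_fixingSubgroup_iff]
  refine and_congr_right fun _ => ⟨fun h j h1 h2 => h j ?_, fun h j hj => h j ?_ ?_⟩
  · obtain rfl | rfl | rfl | rfl := (by decide : ∀ j : Fin 13, 8 ≤ j.val → j.val < 12 →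
      j = 8 ∨ j = 9 ∨ j = 10 ∨ j = 11) j h1 h2 <;> simp
  all_goals rcases hj with rfl | rfl | rfl | rfl <;> decide

theorem cyc_mem_H45 {full : Bool} {i : Fin 13} (h2 : 2 ≤ i.val) (h : i.val < 8 ∨ i = 12 ∧ full = true) :
    cyc (0 : Fin 13) 1 i ∈ H45 full := by
  refine mem_H45.2 ⟨(Cs_sF full).le (cyc_mem ?_), fun j h1 h12 => cyc_fix ?_ ?_ ?_⟩
  · simp only [sF, Finset.mem_filter, Finset.mem_univ, true_and]
    rcases h with h | ⟨-, h⟩
    · exact ⟨h2, Or.inl (by omega)⟩
    · exact ⟨h2, Or.inr h⟩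
  all_goals
    intro e
    rw [e] at h1 h12
    rcases h with h | ⟨rfl, -⟩
    · omega
    · omega

theorem c012_eq : c012 = cyc (0 : Fin 13) 1 2 := by decide +kernel

theorem c01z_eq : c01z = cyc (0 : Fin 13) 1 12 := by decide +kernel

theorem exists_sigma : ∀ i j : Fin 13, 2 ≤ i.val → 2 ≤ j.val → ∃ k l : Fin 6, 2 ≤ k ∧ 2 ≤ l ∧ k ≠ l ∧
    ((std (pm0 (sgk k l))).symm i = 12 ∨ 2 ≤ ((std (pm0 (sgk k l))).symm i).val ∧
      ((std (pm0 (sgk k l))).symm i).val < 8) ∧
    ((std (pm0 (sgk k l))).symm j = 12 ∨ 2 ≤ ((std (pm0 (sgk k l))).symm j).val ∧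
      ((std (pm0 (sgk k l))).symm j).val < 8) := by
  decide +kernel

theorem sgk_fix : ∀ k l : Fin 6, 2 ≤ k → 2 ≤ l → k ≠ l →
    (∀ i : Fin 13, i.val < 4 → std (pm0 (sgk k l)) i = i) ∧ Perm.sign (std (pm0 (sgk k l))) = 1 := by
  decide +kernel

theorem gens_small : ∀ a ∈ [pm0 (swap 0 1), f01, pm0 (swap 1 2)],
    Perm.sign (std a) = 1 ∧ ∀ j : Fin 13, 8 ≤ j.val → std a j = j := by
  simp only [List.forall_mem_cons, List.not_mem_nil, IsEmpty.forall_iff, implies_true, and_true]
  decide +kernel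

variable {G : Type*} [Group G] {d : Dat G} (D : Local d)

namespace Local

/-- The image of the three-cycle on the first three points. -/
noncomputable def τ : G := D.ψ ⟨c012, c012_eq ▸ cyc_mem_H45 (by decide) (Or.inl (by decide))⟩

/-- The images of the Carmichael generators. -/
noncomputable def U (i : Fin 13) : G :=
  if h : i = 12 ∧ D.full = true then D.ψ ⟨c01z, c01z_eq ▸ cyc_mem_H45 (by decide) (Or.inr ⟨rfl, h.2⟩)⟩
  else d.emb (mov i) * D.τ * (d.emb (mov i))⁻¹

theorem U_eq {a : ↥W0} {i : Fin 13} (hi : 2 ≤ i.val) (hi' : i.val < 12) (h0 : std a 0 = 0) (h1 : std a 1 = 1)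
    (h2 : std a 2 = i) : D.U i = d.emb a * D.τ * (d.emb a)⁻¹ := by
  obtain ⟨m0, m1, m2, -⟩ := mov_facts i hi hi'
  rw [U, dif_neg (fun h => by rw [h.1] at hi'; exact absurd hi' (by decide))]
  set b := (mov i)⁻¹ * a with hb
  have e : ∀ j, std b j = (std (mov i)).symm (std a j) := fun j => by rw [hb, map_mul, map_inv]; rfl
  have b2 : std b 2 = 2 := by rw [e, h2, symm_apply_eq, m2]
  have b0 : std b 0 = 0 := by rw [e, h0, symm_apply_eq, m0]
  have b1 : std b 1 = 1 := by rw [e, h1, symm_apply_eq, m1]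
  have hfix : ∀ j : Fin 13, j.val < 4 → std b j = j := fun j hj => by
    obtain rfl | rfl | rfl | rfl := (by decide : ∀ j : Fin 13, j.val < 4 → j = 0 ∨ j = 1 ∨ j = 2 ∨ j = 3) j hj
    exacts [b0, b1, b2, std_three b2]
  have hc : D.τ * d.emb b = d.emb b * D.τ := D.three _ (Or.inl rfl) b hfix
  rw [show a = mov i * b by rw [hb, mul_inv_cancel_left], map_mul]
  calc d.emb (mov i) * D.τ * (d.emb (mov i))⁻¹
      = d.emb (mov i) * (D.τ * d.emb b) * (d.emb b)⁻¹ * (d.emb (mov i))⁻¹ := by group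
    _ = _ := by rw [hc]; group

theorem psi_cyc {i : Fin 13} (h2 : 2 ≤ i.val) (h8 : i.val < 8) :
    D.ψ ⟨cyc 0 1 i, cyc_mem_H45 h2 (Or.inl h8)⟩ = D.U i := by
  obtain ⟨m0, m1, m2, m8⟩ := mov_facts i h2 (by omega)
  obtain ⟨hs, hf⟩ := m8 h8
  have hm : std (mov i) ∈ H45 D.full := by
    refine mem_H45.2 ⟨?_, fun j h1 _ => hf j h1⟩
    cases D.full
    · exact ⟨Perm.mem_alternatingGroup.2 hs, MulAction.mem_stabilizer_iff.2 (std_last _)⟩
    · exact Perm.mem_alternatingGroup.2 hs
  rw [D.U_eq h2 (by omega) m0 m1 m2, τ, ← D.agree _ hm, ← map_inv, ← map_mul, ← map_mul]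
  refine congrArg D.ψ (Subtype.ext ?_)
  show cyc 0 1 i = std (mov i) * c012 * (std (mov i))⁻¹
  rw [c012_eq, cyc, cyc]
  conv_lhs =>
    rw [show swap 0 i = swap (std (mov i) 0) (std (mov i) 2) by rw [m0, m2],
      show (swap 0 1 : P13) = swap (std (mov i) 0) (std (mov i) 1) by rw [m0, m1],
      swap_apply_apply, swap_apply_apply]
  group

/-- One permutation of the last four pairs carries the generators. -/
theorem U_conj {k l : Fin 6} (hk : 2 ≤ k) (hl : 2 ≤ l) (hkl : k ≠ l) {i : Fin 13}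
    (h : 2 ≤ i.val ∧ i.val < 8 ∨ i = 12 ∧ D.full = true) :
    D.U (std (pm0 (sgk k l)) i) = d.emb (pm0 (sgk k l)) * D.ψ ⟨cyc 0 1 i, cyc_mem_H45
      (by rcases h with h | ⟨rfl, -⟩; exacts [h.1, by decide]) (h.imp (fun h => h.2) id)⟩ *
      (d.emb (pm0 (sgk k l)))⁻¹ := by
  obtain ⟨hf, -⟩ := sgk_fix k l hk hl hkl
  set c := pm0 (sgk k l)
  rcases h with ⟨h2, h8⟩ | ⟨rfl, hfull⟩
  · obtain ⟨m0, m1, m2, -⟩ := mov_facts i h2 (by omega)
    have himg : 2 ≤ (std c i).val ∧ (std c i).val < 12 := by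
      constructor
      · by_contra hlt
        have := (std c).injective (hf (std c i) (by omega))
        rw [← this] at h2
        omega
      · by_contra hlt
        have e12 : std c i = std c 12 := by
          rw [std_last]; exact Fin.ext (by have := (std c i).isLt; simp; omega)
        rw [(std c).injective e12] at h8
        exact absurd h8 (by decide)
    rw [D.psi_cyc h2 h8, D.U_eq himg.1 himg.2 (a := c * mov i), D.U_eq h2 (by omega) m0 m1 m2, map_mul]
    · group
    all_goals rw [map_mul, Perm.mul_apply]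
    · rw [m0, hf 0 (by decide)]
    · rw [m1, hf 1 (by decide)]
    · rw [m2]
  · rw [std_last, U, dif_pos ⟨rfl, hfull⟩]
    have hc := D.three ⟨c01z, c01z_eq ▸ cyc_mem_H45 (by decide) (Or.inr ⟨rfl, hfull⟩)⟩ (Or.inr rfl) c hf
    simp only [← c01z_eq]
    rw [← hc, mul_inv_cancel_right]

theorem carRel : CarRel D.U (sF D.full) := by
  have key : ∀ i ∈ sF D.full, ∀ j ∈ sF D.full, ∃ (f : ↥(H45 D.full) →* G) (i' j' : ↥(H45 D.full)),
      f i' = D.U i ∧ f j' = D.U j ∧ i' ^ 3 = 1 ∧ (i ≠ j → (i' * j') ^ 2 = 1) := by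
    intro i hi j hj
    simp only [sF, Finset.mem_filter, Finset.mem_univ, true_and] at hi hj
    obtain ⟨k, l, hk, hl, hkl, hi', hj'⟩ := exists_sigma i j hi.1 hj.1
    set c := pm0 (sgk k l)
    have back : ∀ i : Fin 13, (2 ≤ i.val ∧ (i.val < 12 ∨ D.full = true)) →
        ((std c).symm i = 12 ∨ 2 ≤ ((std c).symm i).val ∧ ((std c).symm i).val < 8) →
        2 ≤ ((std c).symm i).val ∧ ((std c).symm i).val < 8 ∨ (std c).symm i = 12 ∧ D.full = true := by
      intro i hi h
      rcases h with h | h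
      · have e : i = 12 := by rw [← std_last c, ← h, apply_symm_apply]
        refine Or.inr ⟨h, ?_⟩
        subst e
        exact hi.2.resolve_left (by decide)
      · exact Or.inl h
    have bi := back i hi hi'
    have bj := back j hj hj'
    refine ⟨(MulAut.conj (d.emb c)).toMonoidHom.comp D.ψ, _, _, ((D.U_conj hk hl hkl bi).symm.trans ?_),
      ((D.U_conj hk hl hkl bj).symm.trans ?_), Subtype.ext ?_, fun hij => Subtype.ext ?_⟩
    · rw [apply_symm_apply]
    · rw [apply_symm_apply]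
    · exact cyc_cube (by decide) (fun h => by rcases bi with b | b <;> rw [h] at b <;> simp at b)
        (fun h => by rcases bi with b | b <;> rw [h] at b <;> simp at b)
    · exact cyc_pair (by decide) (fun h => by rcases bi with b | b <;> rw [h] at b <;> simp at b)
        (fun h => by rcases bi with b | b <;> rw [h] at b <;> simp at b)
        (fun h => by rcases bj with b | b <;> rw [h] at b <;> simp at b)
        (fun h => by rcases bj with b | b <;> rw [h] at b <;> simp at b) ((std c).symm.injective.ne hij)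
  refine ⟨fun i hi => ?_, fun i hi j hj hij => ?_⟩
  · obtain ⟨f, i', j', e, -, h3, -⟩ := key i hi i hi
    rw [← e, ← map_pow, h3, map_one]
  · obtain ⟨f, i', j', e1, e2, -, h2⟩ := key i hi j hj
    rw [← e1, ← e2, ← map_mul, ← map_pow, h2 hij, map_one]

/-- The embedding. -/
theorem exists_embedding : ∃ ι : ↥(altS D.full) →* G, Function.Injective ι ∧
    (∀ a, ∃ h : std a ∈ altS D.full, ι ⟨std a, h⟩ = d.emb a) ∧
      ∀ r : ↥(altS D.full), r.1 = xx → centralizer ({ι r} : Set G) ≤ ι.range := by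
  obtain ⟨f, hf⟩ := car_hom (good_sF D.full) D.U D.carRel
  let ι : ↥(altS D.full) →* G := f.comp (MulEquiv.subgroupCongr (Cs_sF D.full).symm).toMonoidHom
  have hι : ∀ i (hi : i ∈ sF D.full), ι ⟨cyc 0 1 i, (Cs_sF D.full).le (cyc_mem hi)⟩ = D.U i := hf
  -- on the eight or nine points it is the given map
  have hle : ∀ g : ↥(H45 D.full), ι ⟨g.1, g.2.1⟩ = D.ψ g := by
    let t : Finset (Fin 13) := Finset.univ.filter fun i => 2 ≤ i.val ∧ (i.val < 8 ∨ i = 12 ∧ D.full = true)
    have ht : Good (0 : Fin 13) 1 t := ⟨by decide, by simp [t], by simp [t]⟩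
    have heq : H45 D.full = Cs 0 1 t := by
      refine le_antisymm (fun g hg => ?_) (closure_le _ |>.2 ?_)
      · obtain ⟨hg1, hg2⟩ := mem_H45.1 hg
        refine mem_Cs_of_support ht ?_ fun x hx => ?_
        · cases hfull : D.full <;> rw [hfull] at hg1
          · exact Perm.mem_alternatingGroup.1 hg1.1
          · exact Perm.mem_alternatingGroup.1 hg1
        · have h8 : ¬(8 ≤ x.val ∧ x.val < 12) := fun h => hx (hg2 x h.1 h.2)
          have h12 : x = 12 → D.full = true := fun h => by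
            cases hfull : D.full
            · rw [hfull] at hg1
              exact absurd (h ▸ MulAction.mem_stabilizer_iff.1 hg1.2) hx
            · rfl
          simp only [t, Finset.mem_insert, Finset.mem_filter, Finset.mem_univ, true_and]
          rcases (by decide : ∀ x : Fin 13, ¬(8 ≤ x.val ∧ x.val < 12) →
            x = 0 ∨ x = 1 ∨ (2 ≤ x.val ∧ x.val < 8) ∨ x = 12) x h8 with h | h | h | h
          · exact Or.inl h
          · exact Or.inr (Or.inl h)
          · exact Or.inr (Or.inr ⟨h.1, Or.inl h.2⟩)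
          · exact Or.inr (Or.inr ⟨by rw [h]; decide, Or.inr ⟨h, h12 h⟩⟩)
      · rintro _ ⟨i, hi, rfl⟩
        have := (Finset.mem_filter.1 (Finset.mem_coe.1 hi)).2
        exact cyc_mem_H45 this.1 this.2
    have key : (ι.comp (Subgroup.inclusion (show H45 D.full ≤ altS D.full from inf_le_left))).comp
        (MulEquiv.subgroupCongr heq.symm).toMonoidHom = D.ψ.comp (MulEquiv.subgroupCongr heq.symm).toMonoidHom := by
      refine hom_ext fun i hi => ?_
      have h := (Finset.mem_filter.1 hi).2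
      refine (hι i ?_).trans ?_
      · simp only [sF, Finset.mem_filter, Finset.mem_univ, true_and]
        rcases h.2 with h' | h'
        · exact ⟨h.1, Or.inl (by omega)⟩
        · exact ⟨h.1, Or.inr h'.2⟩
      · rcases h.2 with h' | ⟨h', hfull⟩
        · exact (D.psi_cyc h.1 h').symm
        · subst h'
          rw [U, dif_pos ⟨rfl, hfull⟩]
          simp only [c01z_eq]
          rfl
    intro g
    exact DFunLike.congr_fun key ((MulEquiv.subgroupCongr heq) g)
  -- the elements on which it extends the embedding of the centraliser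
  let K : Subgroup ↥W0 :=
    { carrier := {a | ∃ h : std a ∈ altS D.full, ι ⟨std a, h⟩ = d.emb a}
      mul_mem' := by
        rintro a b ⟨ha, ea⟩ ⟨hb, eb⟩
        refine ⟨by rw [map_mul]; exact mul_mem ha hb, ?_⟩
        refine Eq.trans ?_ ((map_mul ι ⟨std a, ha⟩ ⟨std b, hb⟩).trans (by rw [ea, eb, ← map_mul d.emb]))
        exact congrArg ι (Subtype.ext (map_mul std a b))
      one_mem' := ⟨by rw [map_one]; exact one_mem _, by
        rw [map_one d.emb, ← map_one ι]; exact congrArg ι (Subtype.ext (map_one std))⟩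
      inv_mem' := by
        rintro a ⟨ha, ea⟩
        refine ⟨by rw [map_inv]; exact inv_mem ha, ?_⟩
        refine Eq.trans ?_ ((map_inv ι ⟨std a, ha⟩).trans (by rw [ea, ← map_inv d.emb]))
        exact congrArg ι (Subtype.ext (map_inv std a)) }
  have hS : ∀ a, Perm.sign (std a) = 1 → std a ∈ altS D.full := fun a ha => by
    cases D.full
    · exact ⟨Perm.mem_alternatingGroup.2 ha, MulAction.mem_stabilizer_iff.2 (std_last _)⟩
    · exact Perm.mem_alternatingGroup.2 ha
  have hsmall : ∀ a ∈ [pm0 (swap 0 1), f01, pm0 (swap 1 2)],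
      ∃ h : std a ∈ H45 D.full, ι ⟨std a, h.1⟩ = d.emb a := by
    intro a ha
    obtain ⟨h1, h2⟩ := gens_small a ha
    have h : std a ∈ H45 D.full := mem_H45.2 ⟨hS a h1, fun j hj _ => h2 j hj⟩
    exact ⟨h, (hle ⟨_, h⟩).trans (D.agree a h)⟩
  have hconj : ∀ k l : Fin 6, 2 ≤ k → 2 ≤ l → k ≠ l → ∀ g : ↥(H45 D.full),
      ∃ h : std (pm0 (sgk k l)) * g.1 * (std (pm0 (sgk k l)))⁻¹ ∈ altS D.full,
        ι ⟨_, h⟩ = d.emb (pm0 (sgk k l)) * D.ψ g * (d.emb (pm0 (sgk k l)))⁻¹ := by
    intro k l hk hl hkl g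
    obtain ⟨hf, hsgn⟩ := sgk_fix k l hk hl hkl
    set c := pm0 (sgk k l)
    have hc := hS c hsgn
    refine ⟨mul_mem (mul_mem hc g.2.1) (inv_mem hc), ?_⟩
    let F1 : ↥(H45 D.full) →* G :=
      (ι.comp (MulAut.conj ⟨std c, hc⟩).toMonoidHom).comp (Subgroup.inclusion inf_le_left)
    let F2 : ↥(H45 D.full) →* G := (MulAut.conj (d.emb c)).toMonoidHom.comp D.ψ
    let E : Subgroup P13 := (MonoidHom.eqLocus F1 F2).map (H45 D.full).subtype
    suffices g.1 ∈ E by
      obtain ⟨g', hg', e⟩ := this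
      rw [Subtype.ext e] at hg'
      exact hg'
    have hgen : ∀ i : Fin 13, (2 ≤ i.val ∧ i.val < 8 ∨ i = 12 ∧ D.full = true) → cyc 0 1 i ∈ E := by
      intro i h
      have hm : cyc 0 1 i ∈ H45 D.full :=
        cyc_mem_H45 (by rcases h with h | ⟨rfl, -⟩; exacts [h.1, by decide]) (h.imp (fun h => h.2) id)
      refine ⟨⟨_, hm⟩, ?_, rfl⟩
      have e : std c * cyc 0 1 i * (std c)⁻¹ = cyc 0 1 (std c i) := by
        rw [cyc, cyc]
        conv_rhs => rw [← hf 0 (by decide), ← hf 1 (by decide), swap_apply_apply, swap_apply_apply]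
        group
      have hi : std c i ∈ sF D.full := by
        simp only [sF, Finset.mem_filter, Finset.mem_univ, true_and]
        rcases h with ⟨h2, h8⟩ | ⟨rfl, hfull⟩
        · refine ⟨?_, Or.inl ?_⟩
          · by_contra hlt
            have := (std c).injective (hf (std c i) (by omega))
            rw [← this] at h2
            omega
          · by_contra hlt
            have e12 : std c i = std c 12 := by
              rw [std_last]; exact Fin.ext (by have := (std c i).isLt; simp; omega)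
            rw [(std c).injective e12] at h8
            exact absurd h8 (by decide)
        · rw [std_last]; exact ⟨by decide, Or.inr hfull⟩
      show ι ⟨std c * cyc 0 1 i * (std c)⁻¹, _⟩ = _
      rw [show (⟨std c * cyc 0 1 i * (std c)⁻¹, mul_mem (mul_mem hc hm.1) (inv_mem hc)⟩ : ↥(altS D.full)) =
        ⟨cyc 0 1 (std c i), (Cs_sF D.full).le (cyc_mem hi)⟩ from Subtype.ext e, hι _ hi, D.U_conj hk hl hkl h]
      rfl
    have : H45 D.full ≤ E := by
      intro y hy
      obtain ⟨hy1, hy2⟩ := mem_H45.1 hy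
      let t : Finset (Fin 13) := Finset.univ.filter fun i => 2 ≤ i.val ∧ i.val < 8 ∨ i = 12 ∧ D.full = true
      have ht : Good (0 : Fin 13) 1 t := ⟨by decide, by simp [t], by simp [t]⟩
      have hCs : Cs (0 : Fin 13) 1 t ≤ E := (closure_le E).2 (by
        rintro _ ⟨i, hi, rfl⟩
        exact hgen i (Finset.mem_filter.1 (Finset.mem_coe.1 hi)).2)
      refine hCs (mem_Cs_of_support ht ?_ fun x hx => ?_)
      · cases hfull : D.full <;> rw [hfull] at hy1
        · exact Perm.mem_alternatingGroup.1 hy1.1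
        · exact Perm.mem_alternatingGroup.1 hy1
      · have h8 : ¬(8 ≤ x.val ∧ x.val < 12) := fun h => hx (hy2 x h.1 h.2)
        simp only [t, Finset.mem_insert, Finset.mem_filter, Finset.mem_univ, true_and]
        rcases (by decide : ∀ x : Fin 13, ¬(8 ≤ x.val ∧ x.val < 12) →
          x = 0 ∨ x = 1 ∨ (2 ≤ x.val ∧ x.val < 8) ∨ x = 12) x h8 with h | h | h | h
        · exact Or.inl h
        · exact Or.inr (Or.inl h)
        · exact Or.inr (Or.inr (Or.inl h))
        · refine Or.inr (Or.inr (Or.inr ⟨h, ?_⟩))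
          cases hfull : D.full
          · rw [hfull] at hy1
            exact absurd (h ▸ MulAction.mem_stabilizer_iff.1 hy1.2) hx
          · rfl
    exact this g.2
  have hsgkK : ∀ a, (∃ k l : Fin 6, ∃ b ∈ [pm0 (swap 0 1), f01, pm0 (swap 1 2)], 2 ≤ k ∧ 2 ≤ l ∧ k ≠ l ∧
      a = pm0 (sgk k l) * b * (pm0 (sgk k l))⁻¹) → a ∈ K := by
    rintro a ⟨k, l, b, hb, hk, hl, hkl, rfl⟩
    obtain ⟨hbm, hbe⟩ := hsmall b hb
    obtain ⟨h, e⟩ := hconj k l hk hl hkl ⟨std b, hbm⟩
    refine ⟨by rw [map_mul, map_mul, map_inv]; exact h, ?_⟩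
    rw [map_mul d.emb, map_mul d.emb, map_inv d.emb, ← D.agree b hbm, ← e]
    exact congrArg ι (Subtype.ext (by simp [map_mul, map_inv]))
  have hK : K = ⊤ := eq_top_of_gens
    (by obtain ⟨h, e⟩ := hsmall (pm0 (swap 0 1)) (by simp); exact ⟨h.1, e⟩)
    (by obtain ⟨h, e⟩ := hsmall f01 (by simp); exact ⟨h.1, e⟩)
    (fun k hk => hsgkK _ (by
      obtain ⟨l, hl, hkl, e⟩ := (by decide +kernel : ∀ k : Fin 6, 2 ≤ k → ∃ l : Fin 6, 2 ≤ l ∧ k ≠ l ∧
        (pm0 (swap 1 k)).1 = (pm0 (sgk k l) * pm0 (swap 1 2) * (pm0 (sgk k l))⁻¹).1) k hk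
      exact ⟨k, l, pm0 (swap 1 2), by simp, hk, hl, hkl, Subtype.ext e⟩))
  have hagree : ∀ a, ∃ h : std a ∈ altS D.full, ι ⟨std a, h⟩ = d.emb a := fun a =>
    (hK ▸ Subgroup.mem_top a : a ∈ K)
  refine ⟨ι, ?_, hagree, ?_⟩
  · obtain ⟨n, hn, ⟨e⟩⟩ : ∃ n, 5 ≤ n ∧ Nonempty (↥(alternatingGroup (Fin n)) ≃* ↥(altS D.full)) := by
      cases D.full
      · exact ⟨12, by omega, iso_A12⟩
      · exact ⟨13, by omega, ⟨MulEquiv.subgroupCongr (if_pos rfl).symm⟩⟩
    have : IsSimpleGroup ↥(alternatingGroup (Fin n)) := alternatingGroup.isSimpleGroup (by simpa using hn)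
    rcases (ι.comp e.toMonoidHom).normal_ker.eq_bot_or_eq_top with h | h
    · intro x y hxy
      obtain ⟨x, rfl⟩ := e.surjective x
      obtain ⟨y, rfl⟩ := e.surjective y
      rw [(MonoidHom.ker_eq_bot_iff _).1 h hxy]
    · obtain ⟨h', e'⟩ := hagree z0
      have : ι ⟨std z0, h'⟩ = 1 := by
        obtain ⟨y, hy⟩ := e.surjective ⟨std z0, h'⟩
        rw [← hy]
        exact (MonoidHom.mem_ker).1 (h ▸ Subgroup.mem_top y : y ∈ (ι.comp e.toMonoidHom).ker)
      exact absurd (e'.symm.trans this) d.t_ne_one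
  · intro r hr
    let c := pm0 (swap 0 4 * swap 1 5)
    have e0 : ax = c * a45 * c⁻¹ := Subtype.ext (by decide +kernel)
    obtain ⟨h, e⟩ := hagree ax
    rw [show r = ⟨std ax, h⟩ from Subtype.ext (hr.trans std_ax.symm), e, e0, map_mul, map_mul, map_inv]
    have hr1 : D.ψ.range ≤ ι.range := by
      rintro _ ⟨g, rfl⟩; exact ⟨_, hle g⟩
    have hr2 : d.emb.range ≤ ι.range := by
      rintro _ ⟨a, rfl⟩; obtain ⟨h, e⟩ := hagree a; exact ⟨_, e⟩
    intro m hm
    have hm' : (d.emb c)⁻¹ * m * d.emb c ∈ centralizer ({d.emb a45} : Set G) := by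
      rw [mem_centralizer_singleton_iff] at hm ⊢
      calc (d.emb c)⁻¹ * m * d.emb c * d.emb a45
          = (d.emb c)⁻¹ * (m * (d.emb c * d.emb a45 * (d.emb c)⁻¹)) * d.emb c := by group
        _ = _ := by rw [hm]; group
    have := (sup_le hr1 hr2) (D.centX hm')
    have := mul_mem (mul_mem (hr2 ⟨c, rfl⟩) this) (inv_mem (hr2 ⟨c, rfl⟩))
    rwa [show d.emb c * ((d.emb c)⁻¹ * m * d.emb c) * (d.emb c)⁻¹ = m by group] at this

end Local

/-- The alternating branch from the local data. -/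
theorem alt_of_local [Finite G] (hd : ∀ a, d.Fused a ↔ a * a = 1 ∧ Dat.P27 a.1) (D : Local d) :
    Nonempty (G ≃* ↥(alternatingGroup (Fin 12))) ∨ Nonempty (G ≃* ↥(alternatingGroup (Fin 13))) := by
  obtain ⟨ι, hinj, hι, hx⟩ := D.exists_embedding
  exact alt_end hd ι hinj hι hx

end Cfsg.Agent.S3298Lib
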