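import Cfsg.Agent.Lib.S3298.Std

/-!
S3298, alternating branch: what the local analysis delivers - one embedded alternating group on eight or
nine points centralising the four-group of the last two pairs.
-/

set_option autoImplicit false

namespace Cfsg.Agent.S3298Lib

open Equiv Subgroup SylClasses S3298Fus

/-- The even permutations of `altS full` fixing the points of the last two pairs. -/
def H45 (full : Bool) : Subgroup P13 :=
  altS full ⊓ fixingSubgroup P13 ({8, 9, 10, 11} : Set (Fin 13))

/-- The flip of the last two pairs. -/
def a45 : ↥W0 := ⟨W.fl ![0, 0, 0, 0, 1, 1], mem_W0.2 (by decide +kernel)⟩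

/-- The exchange of the last two pairs. -/
def b45 : ↥W0 := pm0 (swap 4 5)

/-- The three-cycle on the first three points. -/
def c012 : P13 := swap 0 1 * swap 1 2

/-- The three-cycle through the last point. -/
def c01z : P13 := swap 0 1 * swap 1 12

variable {G : Type*} [Group G]

/-- The local data. -/
structure Local (d : Dat G) where
  /-- whether the last point occurs -/
  full : Bool
  /-- the embedding of eight or nine points -/
  ψ : ↥(H45 full) →* G
  inj : Function.Injective ψ
  agree : ∀ a : ↥W0, ∀ h : std a ∈ H45 full, ψ ⟨std a, h⟩ = d.emb a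
  comm_a : ∀ g, ψ g * d.emb a45 = d.emb a45 * ψ g
  comm_b : ∀ g, ψ g * d.emb b45 = d.emb b45 * ψ g
  three : ∀ g : ↥(H45 full), g.1 = c012 ∨ g.1 = c01z → ∀ a : ↥W0,
    (∀ i : Fin 13, i.val < 4 → std a i = i) → ψ g * d.emb a = d.emb a * ψ g
  centX : centralizer ({d.emb a45} : Set G) ≤ ψ.range ⊔ d.emb.range

end Cfsg.Agent.S3298Lib
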