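import Cfsg.Agent.Lib.BoundedPres.Kappa
import Cfsg.Agent.Lib.S3298.Glue.Defs

/-!
S3298, gluing: the three-cycles through two points generate the even permutations of their points, and the
model centraliser is generated by four elements of four pairs under the permutations of the last four pairs.
-/

set_option autoImplicit false
set_option maxRecDepth 100000

namespace Cfsg.Agent.S3298Lib

open Equiv Subgroup SylClasses S3298Fus BoundedPres

theorem mem_Cs_of_support {Ω : Type*} [Fintype Ω] [DecidableEq Ω] {a b : Ω} {s : Finset Ω} (hs : Good a b s)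
    {g : Perm Ω} (he : Perm.sign g = 1) (hg : ∀ x, g x ≠ x → x ∈ insert a (insert b s)) : g ∈ Cs a b s := by
  let p : Ω → Prop := fun x => x ∈ insert a (insert b s)
  have hp : ∀ x, p (g x) ↔ p x := fun x => by
    by_cases h : g x = x
    · rw [h]
    · exact ⟨fun _ => hg x h, fun _ => hg _ fun e => h (g.injective e)⟩
  let a' : Subtype p := ⟨a, Finset.mem_insert_self _ _⟩
  let b' : Subtype p := ⟨b, Finset.mem_insert_of_mem (Finset.mem_insert_self _ _)⟩
  let s' : Finset (Subtype p) := Finset.univ.filter fun x => x.1 ∈ s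
  have hs' : Good a' b' s' := by
    refine ⟨fun h => hs.ne (congrArg Subtype.val h), ?_, ?_⟩
    · simpa [s', a'] using hs.ha
    · simpa [s', b'] using hs.hb
  have hfull : ∀ x, x ≠ a' → x ≠ b' → x ∈ s' := by
    rintro ⟨x, hx⟩ h1 h2
    simp only [s', Finset.mem_filter, Finset.mem_univ, true_and]
    rcases Finset.mem_insert.1 hx with h | h
    · exact absurd (Subtype.ext h) h1
    rcases Finset.mem_insert.1 h with h | h
    · exact absurd (Subtype.ext h) h2
    · exact h
  have hmem : g.subtypePerm hp ∈ Cs a' b' s' := by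
    rw [Cs_eq_alternating hs' hfull, Perm.mem_alternatingGroup]
    convert (Perm.sign_subtypePerm g hp hg).trans he using 3
  have key : Perm.ofSubtype (g.subtypePerm hp) ∈ (Cs a' b' s').map Perm.ofSubtype :=
    Subgroup.mem_map_of_mem _ hmem
  rw [Perm.ofSubtype_subtypePerm hp hg, Cs, MonoidHom.map_closure, ← Set.image_comp] at key
  refine Subgroup.closure_mono ?_ key
  rintro _ ⟨x, hx, rfl⟩
  refine ⟨x.1, (Finset.mem_filter.1 (Finset.mem_coe.1 hx)).2, ?_⟩
  simp [cyc, Perm.ofSubtype_swap_eq, a', b']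

/-- A permutation of the last four pairs sending the third and fourth to two given ones. -/
def sgk (k l : Fin 6) : Perm (Fin 6) := swap 2 k * swap 3 (swap 2 k l)

/-- The flip of the first two pairs. -/
def f01 : ↥W0 := ⟨W.fl ![1, 1, 0, 0, 0, 0], mem_W0.2 (by decide +kernel)⟩

/-- The flip of the second pair and another. -/
def f1k (k : Fin 6) : ↥W0 :=
  ⟨W.fl fun i => (if i = 1 then 1 else 0) + (if i = k then 1 else 0),
    mem_W0.2 ((by decide +kernel : ∀ k : Fin 6,
      W.par (W.fl fun i => (if i = 1 then (1 : ZMod 2) else 0) + (if i = k then 1 else 0)) = 0) k)⟩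

/-- A subgroup of the model with the four elements of four pairs and closed under moving the last four pairs is
everything. -/
theorem eq_top_of_gens {K : Subgroup ↥W0} (h01 : pm0 (swap 0 1) ∈ K)
    (hf : f01 ∈ K) (h1k : ∀ k : Fin 6, 2 ≤ k → pm0 (swap 1 k) ∈ K) : K = ⊤ := by
  have hs1 : ∀ k : Fin 6, k ≠ 1 → pm0 (swap 1 k) ∈ K := by
    intro k hk
    obtain rfl | h := (by decide : ∀ k : Fin 6, k ≠ 1 → k = 0 ∨ 2 ≤ k) k hk
    · rw [swap_comm]; exact h01
    · exact h1k k h
  have hpm : ∀ σ, pm0 σ ∈ K := by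
    have hmul : ∀ σ τ, pm0 (σ * τ) = pm0 σ * pm0 τ := fun σ τ => Subtype.ext (W.ext (by simp [pm0]) rfl)
    intro σ
    induction σ using Perm.swap_induction_on with
    | one => rw [show pm0 1 = 1 from Subtype.ext rfl]; exact K.one_mem
    | swap_mul τ x y hxy hτ =>
      rw [hmul]
      refine K.mul_mem ?_ hτ
      by_cases hx : x = 1
      · subst hx; exact hs1 y (Ne.symm hxy)
      by_cases hy : y = 1
      · subst hy; rw [swap_comm]; exact hs1 x hx
      rw [show swap x y = swap 1 x * swap 1 y * swap 1 x from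
        ((by decide : ∀ x y : Fin 6, x ≠ y → x ≠ 1 → y ≠ 1 → swap x y = swap 1 x * swap 1 y * swap 1 x) x y hxy
          hx hy), hmul, hmul]
      exact K.mul_mem (K.mul_mem (hs1 x hx) (hs1 y hy)) (hs1 x hx)
  have hfk : ∀ k : Fin 6, f1k k ∈ K := by
    intro k
    by_cases hk : k = 1
    · subst hk
      rw [show f1k 1 = 1 from Subtype.ext (by decide +kernel)]
      exact K.one_mem
    · rw [show f1k k = pm0 (swap 0 k) * f01 * (pm0 (swap 0 k))⁻¹ from
        Subtype.ext ((by decide +kernel : ∀ k : Fin 6, k ≠ 1 →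
          (f1k k).1 = (pm0 (swap 0 k) * f01 * (pm0 (swap 0 k))⁻¹).1) k hk)]
      exact K.mul_mem (K.mul_mem (hpm _) hf) (K.inv_mem (hpm _))
  refine eq_top_iff.2 fun a _ => ?_
  have hv : ∀ v : Fin 6 → ZMod 2, W.par (W.fl v) = 0 →
      W.fl v = ((List.finRange 6).map fun k => if v k = 1 ∧ k ≠ 1 then (f1k k).1 else 1).prod := by decide +kernel
  have hpar : W.par (W.fl a.1.v) = 0 := by simpa [W.par] using mem_W0.1 a.2
  have e : a = (((List.finRange 6).map fun k => if a.1.v k = 1 ∧ k ≠ 1 then f1k k else 1).prod) * pm0 a.1.p := by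
    refine Subtype.ext ?_
    conv_lhs => rw [W.eq_fl_pm a.1, hv _ hpar]
    rw [Subgroup.coe_mul, Subgroup.val_list_prod, List.map_map]
    congr 2
    refine List.map_congr_left fun k _ => ?_
    simp only [Function.comp_apply]
    split_ifs <;> rfl
  rw [e]
  refine K.mul_mem (K.list_prod_mem fun x hx => ?_) (hpm _)
  obtain ⟨k, -, rfl⟩ := List.mem_map.1 hx
  split_ifs
  · exact hfk k
  · exact K.one_mem

end Cfsg.Agent.S3298Lib
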